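import Mathlib
import Cfsg.Agent.S4394

/-!
The critical Sylow subgroup of a minimal non-nilpotent group: coordinates modulo the derived
subgroup and a bound on the derived subgroup.
-/

set_option autoImplicit false

namespace Cfsg.Agent.Lib.SchmidtMax

open Subgroup Polynomial Cfsg.Agent.S4394
open scoped commutatorElement

/-- The exponent of the largest possible order. -/
def maxExp (a : ℕ) : ℕ := if a % 2 = 1 then a else 3 * a / 2

variable {P : Type*} [Group P] [Finite P] {p q : ℕ} [hp : Fact p.Prime] {c : MulAut P}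

theorem commutator_mem_comm (u w : P) : ⁅u, w⁆ ∈ commutator P := by
  rw [_root_.commutator_def]
  exact commutator_mem_commutator (mem_top u) (mem_top w)

theorem invariant_le (h : Crit p q c) {R : Subgroup P} (hinv : ∀ u ∈ R, c u ∈ R) (hne : R ≠ ⊤) :
    R ≤ commutator P := fun u hu => h.fixed_mem_commutator (h.fix R hne hinv u hu)

/-- Coordinates modulo the derived subgroup, with the bound. -/
theorem exists_coord (h : Crit p q c) :
    ∃ (K : Type) (_ : Field K) (_ : Finite K) (ζ : K) (θ : P →* Multiplicative K),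
      CharP K p ∧ Nat.card K = p ^ orderOf (p : ZMod q) ∧ ζ ^ q = 1 ∧ ζ ≠ 1 ∧ Function.Surjective θ ∧
        (∀ u, θ (c u) = Multiplicative.ofAdd (ζ * Multiplicative.toAdd (θ u))) ∧
        θ.ker = commutator P ∧ Nat.card P ≤ p ^ maxExp (orderOf (p : ZMod q)) := by
  classical
  haveI : Fact q.Prime := ⟨h.hq⟩
  haveI := h.nontrivial
  have hexp : ∀ v : Additive (Abelianization P), p • v = 0 := fun v => by
    obtain ⟨u, hu⟩ : ∃ u : P, Additive.ofMul (Abelianization.of u) = v := by
      obtain ⟨u, hu⟩ := QuotientGroup.mk_surjective (Additive.toMul v)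
      exact ⟨u, congrArg Additive.ofMul hu⟩
    rw [← hu, ← ofMul_pow, ← map_pow]
    have : Abelianization.of (u ^ p) = 1 := by
      rw [← MonoidHom.mem_ker, Abelianization.ker_of]
      exact h.pow_mem_commutator u
    rw [this]
    rfl
  obtain ⟨instMod⟩ : Nonempty (Module (ZMod p) (Additive (Abelianization P))) :=
    ⟨AddCommGroup.zmodModule hexp⟩
  let ab : P → (Additive (Abelianization P)) := fun u => Additive.ofMul (Abelianization.of u)
  have hab : ∀ u w, ab (u * w) = ab u + ab w := fun u w => by simp [ab, map_mul]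
  have habs : Function.Surjective ab := fun v => by
    obtain ⟨u, hu⟩ := QuotientGroup.mk_surjective (Additive.toMul v)
    exact ⟨u, congrArg Additive.ofMul hu⟩
  have hab0 : ∀ u, ab u = 0 ↔ u ∈ commutator P := fun u => by
    rw [← Abelianization.ker_of, MonoidHom.mem_ker]
    exact ⟨fun e => congrArg Additive.toMul e, fun e => congrArg Additive.ofMul e⟩
  let f : (Additive (Abelianization P)) →ₗ[ZMod p] (Additive (Abelianization P)) :=
    (MonoidHom.toAdditive (Abelianization.map c.toMonoidHom)).toZModLinearMap p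
  have hf : ∀ u, f (ab u) = ab (c u) := fun u => by
    simp [f, ab]
  have hfq : ∀ v, (f ^ q) v = v := fun v => by
    obtain ⟨u, rfl⟩ := habs v
    have : ∀ i : ℕ, (f ^ i) (ab u) = ab ((c ^ i) u) := by
      intro i
      induction i with
      | zero => simp
      | succ i ih => rw [pow_succ', Module.End.mul_apply, ih, hf, pow_succ', MulAut.mul_apply]
    rw [this, h.pow]
    rfl
  -- invariant submodules are trivial
  have hirr : ∀ W : Submodule (ZMod p) (Additive (Abelianization P)), (∀ v ∈ W, f v ∈ W) → W ≠ ⊤ → W = ⊥ := by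
    intro W hW hne
    let R : Subgroup P :=
      { carrier := {u | ab u ∈ W}
        one_mem' := by
          show ab 1 ∈ W
          rw [(hab0 1).2 (one_mem _)]; exact zero_mem _
        mul_mem' := fun {u w} hu hw => by
          show ab (u * w) ∈ W
          rw [hab]; exact add_mem hu hw
        inv_mem' := fun {u} hu => by
          show ab u⁻¹ ∈ W
          have e : ab u⁻¹ = - ab u := by
            rw [eq_neg_iff_add_eq_zero, ← hab, inv_mul_cancel]; exact (hab0 1).2 (one_mem _)
          rw [e]; exact neg_mem hu }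
    have hR : R ≠ ⊤ := fun e => hne (eq_top_iff.2 fun v _ => by
      obtain ⟨u, rfl⟩ := habs v
      exact (e.symm ▸ mem_top u : u ∈ R))
    have hle := invariant_le h (R := R) (fun u hu => by
      show ab (c u) ∈ W
      rw [← hf]; exact hW _ hu) hR
    rw [eq_bot_iff]
    intro v hv
    obtain ⟨u, rfl⟩ := habs v
    rw [Submodule.mem_bot]
    exact (hab0 u).2 (hle hv)
  obtain ⟨v₀, hv₀⟩ : ∃ v : (Additive (Abelianization P)), v ≠ 0 := by
    by_contra! hall
    exact h.commutator_ne_top (eq_top_iff.2 fun u _ => (hab0 u).1 (hall _))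
  have hfv₀ : f v₀ ≠ v₀ := by
    intro e
    obtain ⟨u, hu⟩ := habs v₀
    let W : Submodule (ZMod p) (Additive (Abelianization P)) := LinearMap.ker (f - LinearMap.id)
    have hW : ∀ v ∈ W, f v ∈ W := fun v hv => by
      rw [LinearMap.mem_ker, LinearMap.sub_apply, LinearMap.id_apply, sub_eq_zero] at hv ⊢
      rw [hv, hv]
    have hv₀W : v₀ ∈ W := by
      rw [LinearMap.mem_ker, LinearMap.sub_apply, LinearMap.id_apply, e, sub_self]
    by_cases hWtop : W = ⊤
    · -- then `c` fixes everything modulo the derived subgroup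
      have hS : Subgroup.closure (Set.range fun x : P => x⁻¹ * c x) ≤ commutator P := by
        rw [Subgroup.closure_le]
        rintro _ ⟨x, rfl⟩
        rw [SetLike.mem_coe, ← hab0]
        have hx : ab x ∈ W := hWtop ▸ Submodule.mem_top
        rw [LinearMap.mem_ker, LinearMap.sub_apply, LinearMap.id_apply, sub_eq_zero, hf] at hx
        rw [hab, hx, ← hab, inv_mul_cancel]
        exact (hab0 1).2 (one_mem _)
      rw [h.gens] at hS
      exact h.commutator_ne_top (top_le_iff.1 hS)
    · exact hv₀ (by simpa [hirr W hW hWtop] using hv₀W)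
  -- the field
  let E : (ZMod p)[X] →ₗ[ZMod p] (Additive (Abelianization P)) := (LinearMap.applyₗ v₀).comp (aeval f).toLinearMap
  have hEmul : ∀ g k, E (g * k) = aeval f g (E k) := fun g k => by
    simp [E, Module.End.mul_apply]
  let I : Ideal (ZMod p)[X] :=
    { carrier := {g | E g = 0}
      add_mem' := fun {a b} ha hb => by
        show E (a + b) = 0
        rw [map_add, ha, hb, add_zero]
      zero_mem' := map_zero E
      smul_mem' := fun g k hk => by
        show E (g * k) = 0
        rw [hEmul, hk, map_zero] }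
  have hE1 : E 1 = v₀ := by simp [E]
  have hEX : E X = f v₀ := by simp [E]
  have hEsurj : ∀ g, E g ≠ 0 → ∀ v, ∃ k, E (k * g) = v := by
    intro g hg
    let W : Submodule (ZMod p) (Additive (Abelianization P)) :=
      { carrier := Set.range fun k => E (k * g)
        add_mem' := by
          rintro _ _ ⟨k, rfl⟩ ⟨l, rfl⟩
          exact ⟨k + l, by show E ((k + l) * g) = _; rw [add_mul, map_add]⟩
        zero_mem' := ⟨0, by show E (0 * g) = 0; rw [zero_mul, map_zero]⟩
        smul_mem' := by
          rintro a _ ⟨k, rfl⟩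
          exact ⟨a • k, by show E ((a • k) * g) = _; rw [smul_mul_assoc, map_smul]⟩ }
    have hW : ∀ v ∈ W, f v ∈ W := by
      rintro _ ⟨k, rfl⟩
      exact ⟨X * k, by show E (X * k * g) = _; rw [mul_assoc, hEmul, aeval_X]⟩
    intro v
    have : W = ⊤ := by
      by_contra hne
      have hm : E g ∈ W := ⟨1, by show E (1 * g) = _; rw [one_mul]⟩
      rw [hirr W hW hne, Submodule.mem_bot] at hm
      exact hg hm
    exact (this.symm ▸ Submodule.mem_top : v ∈ W)
  haveI hI : I.IsMaximal := by
    rw [Ideal.isMaximal_iff]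
    refine ⟨fun h1 => hv₀ (hE1 ▸ h1), fun J g hIJ hgI hgJ => ?_⟩
    obtain ⟨k, hk⟩ := hEsurj g hgI v₀
    have h2 : 1 - k * g ∈ I := by
      show E (1 - k * g) = 0
      rw [map_sub, hE1, hk, sub_self]
    have := J.add_mem (hIJ h2) (J.mul_mem_left k hgJ)
    rwa [sub_add_cancel] at this
  obtain ⟨K, instK, π, hπsurj, hπ0⟩ : ∃ (K : Type) (_ : Field K) (π : (ZMod p)[X] →+* K),
      Function.Surjective π ∧ ∀ g, π g = 0 ↔ E g = 0 :=
    ⟨(ZMod p)[X] ⧸ I, Ideal.Quotient.field I, Ideal.Quotient.mk I, Ideal.Quotient.mk_surjective,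
      fun g => Ideal.Quotient.eq_zero_iff_mem⟩
  let e₀ : K → (Additive (Abelianization P)) := fun x => E (Classical.choose (hπsurj x))
  have he₀ : ∀ g, e₀ (π g) = E g := fun g => by
    have hg := Classical.choose_spec (hπsurj (π g))
    rw [← sub_eq_zero, ← map_sub, ← hπ0, map_sub, sub_eq_zero]
    exact hg
  let e : K ≃+ (Additive (Abelianization P)) :=
    AddEquiv.ofBijective (AddMonoidHom.mk' e₀ fun x y => by
      obtain ⟨g, rfl⟩ := hπsurj x
      obtain ⟨k, rfl⟩ := hπsurj y
      rw [← map_add]
      exact ((he₀ _).trans (map_add E g k)).trans (congrArg₂ (· + ·) (he₀ g).symm (he₀ k).symm))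
      ⟨fun x y hxy => by
        obtain ⟨g, rfl⟩ := hπsurj x
        obtain ⟨k, rfl⟩ := hπsurj y
        have : e₀ (π g) = e₀ (π k) := hxy
        rw [he₀, he₀] at this
        rw [← sub_eq_zero, ← map_sub]
        exact (hπ0 _).2 (by rw [map_sub, this, sub_self]),
      fun v => by
        obtain ⟨k, hk⟩ := hEsurj 1 (hE1 ▸ hv₀) v
        exact ⟨π k, (he₀ k).trans (by rwa [mul_one] at hk)⟩⟩
  have he : ∀ g, e (π g) = E g := he₀
  haveI : Finite K := Finite.of_equiv (Additive (Abelianization P)) e.symm.toEquiv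
  let ζ : K := π X
  have hζq : ζ ^ q = 1 := by
    rw [← sub_eq_zero, ← map_pow, ← map_one π, ← map_sub, hπ0, map_sub, hE1]
    have : E (X ^ q) = (f ^ q) v₀ := by simp [E]
    rw [this, hfq, sub_self]
  have hζ1 : ζ ≠ 1 := fun e1 => hfv₀ (by
    rw [← map_one π, ← sub_eq_zero, ← map_sub, hπ0, map_sub, hEX, hE1, sub_eq_zero] at e1
    exact e1)
  haveI : CharP K p := charP_of_injective_ringHom ((π.comp Polynomial.C).injective) p
  have hcardK : Nat.card K = p ^ orderOf (p : ZMod q) := by
    set a := orderOf (p : ZMod q)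
    haveI : Fintype K := Fintype.ofFinite K
    obtain ⟨d, -, hd⟩ := FiniteField.card K p
    have hζo : orderOf ζ = q := orderOf_eq_prime hζq hζ1
    have hζ0 : ζ ≠ 0 := fun e => by rw [e, zero_pow h.hq.ne_zero] at hζq; exact zero_ne_one hζq
    have hqd : q ∣ p ^ (d : ℕ) - 1 := by
      rw [← hd, ← hζo]
      exact orderOf_dvd_of_pow_eq_one (FiniteField.pow_card_sub_one_eq_one ζ hζ0)
    have had : a ∣ (d : ℕ) := orderOf_dvd_of_pow_eq_one (by
      rw [← sub_eq_zero, ← Nat.cast_pow, ← Nat.cast_one, ← Nat.cast_sub (Nat.one_le_pow _ _ hp.out.pos)]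
      exact (ZMod.natCast_eq_zero_iff _ _).2 hqd)
    have hpa : ((p : ZMod q)) ^ a = 1 := pow_orderOf_eq_one _
    have hζa : ζ ^ p ^ a = ζ := by
      have hm : p ^ a % q = 1 := by
        have h2 : ((p ^ a : ℕ) : ZMod q) = ((1 : ℕ) : ZMod q) := by push_cast; exact hpa
        rw [ZMod.natCast_eq_natCast_iff'] at h2
        rwa [Nat.mod_eq_of_lt h.hq.one_lt] at h2
      rw [← pow_mod_orderOf, hζo, hm, pow_one]
    have hfixall : ∀ x : K, x ^ p ^ a = x := by
      intro x
      obtain ⟨g, rfl⟩ := hπsurj x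
      show iterateFrobenius K p a (π g) = π g
      have : (iterateFrobenius K p a).comp π = π := by
        refine Polynomial.ringHom_ext (fun r => ?_) ?_
        · show (π (C r)) ^ p ^ a = π (C r)
          rw [← map_pow, ← map_pow, ZMod.pow_card_pow]
        · exact hζa
      exact RingHom.congr_fun this g
    have hapos : 0 < a := by
      refine orderOf_pos_iff.2 (isOfFinOrder_iff_pow_eq_one.2 ⟨q - 1, by have := h.hq.two_le; omega, ?_⟩)
      exact ZMod.pow_card_sub_one_eq_one (fun h0 => by
        rw [ZMod.natCast_eq_zero_iff, Nat.prime_dvd_prime_iff_eq h.hq hp.out] at h0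
        exact h.hpq h0.symm)
    have hle : Nat.card K ≤ p ^ a := by
      rw [Nat.card_eq_fintype_card]
      have hne : (X ^ p ^ a - X : K[X]) ≠ 0 :=
        FiniteField.X_pow_card_pow_sub_X_ne_zero K hapos.ne' hp.out.one_lt
      have hsub : (Finset.univ : Finset K) ⊆ (X ^ p ^ a - X : K[X]).roots.toFinset := fun x _ => by
        rw [Multiset.mem_toFinset, Polynomial.mem_roots hne]
        simp [hfixall x]
      refine (Finset.card_le_card hsub).trans ((Multiset.toFinset_card_le _).trans
        ((Polynomial.card_roots' _).trans ?_))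
      exact (FiniteField.X_pow_card_pow_sub_X_natDegree_eq K hapos.ne' hp.out.one_lt).le
    rw [Nat.card_eq_fintype_card] at hle ⊢
    refine le_antisymm hle ?_
    rw [hd]
    exact Nat.pow_le_pow_right hp.out.pos (Nat.le_of_dvd d.2 had)
  let θ : P →* Multiplicative K :=
    MonoidHom.mk' (fun u => Multiplicative.ofAdd (e.symm (ab u))) fun u w => by
      rw [hab, map_add, ofAdd_add]
  have hθab : ∀ u, e (Multiplicative.toAdd (θ u)) = ab u := fun u => e.apply_symm_apply _
  have hθsurj : Function.Surjective θ := fun x => by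
    obtain ⟨u, hu⟩ := habs (e (Multiplicative.toAdd x))
    exact ⟨u, Multiplicative.toAdd.injective (e.injective ((hθab u).trans hu))⟩
  have hθc : ∀ u, θ (c u) = Multiplicative.ofAdd (ζ * Multiplicative.toAdd (θ u)) := fun u => by
    refine Multiplicative.toAdd.injective (e.injective ?_)
    rw [hθab, toAdd_ofAdd]
    obtain ⟨g, hg⟩ := hπsurj (Multiplicative.toAdd (θ u))
    have h1 : E g = ab u := by rw [← he, ← hθab u, ← hg]
    rw [← hg, show ζ * π g = π (X * g) by rw [map_mul], he, hEmul, aeval_X, h1, hf]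
  have hθker : θ.ker = commutator P := by
    ext u
    rw [MonoidHom.mem_ker, ← hab0, ← hθab u]
    exact ⟨fun e1 => by rw [e1, toAdd_one, map_zero], fun e1 =>
      Multiplicative.toAdd.injective (e.injective (e1.trans (map_zero e).symm))⟩
  refine ⟨K, inferInstance, inferInstance, ζ, θ, inferInstance, hcardK, hζq, hζ1, hθsurj, hθc, hθker, ?_⟩
  -- the bound on the derived subgroup
  set a := orderOf (p : ZMod q) with ha
  have hPcard : Nat.card P = p ^ a * Nat.card (commutator P) := by
    rw [Subgroup.card_eq_card_quotient_mul_card_subgroup θ.ker, hθker, ← hcardK]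
    congr 1
    rw [← hθker]
    exact Nat.card_congr ((QuotientGroup.quotientKerEquivOfSurjective θ hθsurj).toEquiv.trans Multiplicative.toAdd)
  set s : K → P := fun x => Function.surjInv hθsurj (Multiplicative.ofAdd x) with hs_def
  have hs : ∀ x, Multiplicative.toAdd (θ (s x)) = x := fun x => by
    rw [hs_def]; simp [Function.surjInv_eq hθsurj]
  let D := commutator P
  have hDc : ∀ z ∈ D, ∀ g : P, g * z = z * g := fun z hz g =>
    mem_center_iff.1 (h.commutator_le_center hz) g
  have hcl : ∀ a b w : P, ⁅a * b, w⁆ = ⁅a, w⁆ * ⁅b, w⁆ := fun a b w => by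
    calc ⁅a * b, w⁆ = a * ⁅b, w⁆ * (w * a⁻¹ * w⁻¹) := by simp only [commutatorElement_def]; group
      _ = ⁅b, w⁆ * a * (w * a⁻¹ * w⁻¹) := by rw [hDc _ (commutator_mem_comm b w) a]
      _ = ⁅b, w⁆ * ⁅a, w⁆ := by simp only [commutatorElement_def]; group
      _ = _ := hDc _ (commutator_mem_comm a w) _
  -- independence of representatives
  have hrep : ∀ u w : P, ⁅u, w⁆ = ⁅s (Multiplicative.toAdd (θ u)), s (Multiplicative.toAdd (θ w))⁆ := by
    have key : ∀ u v w : P, θ u = θ v → ⁅u, w⁆ = ⁅v, w⁆ := fun u v w huv => by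
      have hm : v⁻¹ * u ∈ D := by
        show v⁻¹ * u ∈ commutator P
        rw [← hθker, MonoidHom.mem_ker, map_mul, map_inv, huv, inv_mul_cancel]
      rw [show u = v * (v⁻¹ * u) by group, hcl,
        (commutatorElement_eq_one_iff_mul_comm.2 (hDc _ hm w).symm : ⁅v⁻¹ * u, w⁆ = 1), mul_one]
    intro u w
    have e1 : ∀ u, θ u = θ (s (Multiplicative.toAdd (θ u))) := fun u =>
      Multiplicative.toAdd.injective (hs _).symm
    rw [key u _ w (e1 u)]
    have := key w _ (s (Multiplicative.toAdd (θ u))) (e1 w)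
    rw [← commutatorElement_inv, this, commutatorElement_inv]
  let B : K → K → P := fun x y => ⁅s x, s y⁆
  have hBadd : ∀ x y z, B (x + y) z = B x z * B y z := fun x y z => by
    show ⁅s (x + y), s z⁆ = ⁅s x, s z⁆ * ⁅s y, s z⁆
    rw [← hcl, hrep (s x * s y)]
    simp [map_mul, toAdd_mul, hs]
  have hBanti : ∀ x y, B y x = (B x y)⁻¹ := fun x y => (commutatorElement_inv _ _).symm
  have hBadd' : ∀ x y z, B x (y + z) = B x y * B x z := fun x y z => by
    rw [hBanti (y + z) x, hBadd, mul_inv_rev, ← hBanti, ← hBanti]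
    exact (hDc _ (commutator_mem_comm _ _) _).symm
  have hBζ : ∀ x y, B (ζ * x) (ζ * y) = B x y := fun x y => by
    have h1 := h.fix_commutator (commutator_mem_comm (s x) (s y))
    rw [map_commutatorElement, hrep, hθc, hθc, toAdd_ofAdd, toAdd_ofAdd, hs, hs] at h1
    exact h1
  have hB0 : ∀ y, B 0 y = 1 := fun y => (left_eq_mul (a := B 0 y)).1 (by rw [← hBadd, add_zero])
  have hζ0 : ζ ≠ 0 := fun e1 => by rw [e1, zero_pow h.hq.ne_zero] at hζq; exact zero_ne_one hζq
  -- adjointness
  have hadj : ∀ (g : (ZMod p)[X]) x y,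
      B (π g * x) y = B x ((g.map (π.comp C)).eval ζ⁻¹ * y) := by
    intro g
    induction g using Polynomial.induction_on' with
    | add g k hg hk =>
      intro x y
      rw [map_add, add_mul, hBadd, hg, hk, Polynomial.map_add, eval_add, add_mul, hBadd']
    | monomial n r =>
      have hXn : ∀ (n : ℕ) x y, B (ζ ^ n * x) y = B x ((ζ⁻¹) ^ n * y) := by
        intro n
        induction n with
        | zero => simp
        | succ n ih =>
          intro x y
          rw [pow_succ', mul_assoc, show y = ζ * (ζ⁻¹ * y) by rw [← mul_assoc, mul_inv_cancel₀ hζ0, one_mul],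
            hBζ, ih]
          congr 1
          rw [pow_succ, mul_assoc, show ζ⁻¹ * (ζ * (ζ⁻¹ * y)) = ζ⁻¹ * y by
            rw [← mul_assoc, inv_mul_cancel₀ hζ0, one_mul]]
      have hnat : ∀ (m : ℕ) x y, B ((m : K) * x) y = B x ((m : K) * y) := by
        intro m
        induction m with
        | zero => intro x y; simp [hB0]; rw [hBanti, hB0, inv_one]
        | succ m ih =>
          intro x y
          rw [Nat.cast_succ, add_mul, add_mul, one_mul, one_mul, hBadd, hBadd', ih]
      intro x y
      obtain ⟨m, rfl⟩ := ZMod.natCast_zmod_surjective r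
      rw [← C_mul_X_pow_eq_monomial, map_mul, map_pow, Polynomial.map_mul, Polynomial.map_pow, map_C, map_X,
        eval_mul, eval_pow, eval_C, eval_X, map_natCast, map_natCast]
      rw [mul_assoc, hnat, hXn, mul_assoc]
      congr 1
      simp only [map_natCast]
      ring
  have hDgen : ∀ (R : Subgroup P), (∀ x y, B x y ∈ R) → D ≤ R := fun R hR => by
    show commutator P ≤ R
    rw [_root_.commutator_def]
    exact commutator_le.2 fun u _ w _ => hrep u w ▸ hR _ _
  have htriv : (∀ x y, B x y = 1) → Nat.card P ≤ p ^ maxExp a := fun hB => by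
    have : D = ⊥ := eq_bot_iff.2 (hDgen ⊥ fun x y => by rw [Subgroup.mem_bot]; exact hB x y)
    rw [hPcard, show commutator P = ⊥ from this, Subgroup.card_bot, mul_one]
    refine Nat.pow_le_pow_right hp.out.pos ?_
    rw [maxExp]; split_ifs <;> omega
  by_cases hroot : ∀ g, π g = 0 → (g.map (π.comp C)).eval ζ⁻¹ = 0
  swap
  · push Not at hroot
    obtain ⟨g, hgI, hg⟩ := hroot
    refine htriv fun x y => ?_
    have := hadj g x (((g.map (π.comp C)).eval ζ⁻¹)⁻¹ * y)
    rw [hgI, zero_mul, hB0, ← mul_assoc, mul_inv_cancel₀ hg,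
      one_mul] at this
    exact this.symm
  let σ : K →+* K := π.liftOfSurjective hπsurj
    ⟨(Polynomial.evalRingHom ζ⁻¹).comp (mapRingHom (π.comp C)), fun g hg => hroot g hg⟩
  have hσ : ∀ g, σ (π g) = (g.map (π.comp C)).eval ζ⁻¹ := fun g =>
    RingHom.liftOfRightInverse_comp_apply _ _ _ _ g
  have hσζ : σ ζ = ζ⁻¹ := by rw [hσ]; simp
  have hBσ : ∀ l x y, B (l * x) y = B x (σ l * y) := fun l x y => by
    obtain ⟨g, rfl⟩ := hπsurj l
    rw [hσ]
    exact hadj g x y
  have hσσ : ∀ x, σ (σ x) = x := by
    have : (σ.comp σ).comp π = π := by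
      refine Polynomial.ringHom_ext (fun r => ?_) ?_
      · show σ (σ (π (C r))) = π (C r)
        rw [hσ]; simp
        exact (hσ (C r)).trans (by simp)
      · show σ (σ ζ) = ζ
        rw [hσζ, map_inv₀, hσζ, inv_inv]
    intro x
    obtain ⟨g, rfl⟩ := hπsurj x
    exact RingHom.congr_fun this g
  have hBself : ∀ x, B x x = 1 := fun x => commutatorElement_self (s x)
  by_cases hfix : ζ⁻¹ = ζ
  · -- then the field is the prime field
    refine htriv fun x y => ?_
    have hnat : ∀ x : K, ∃ m : ℕ, x = (m : K) := by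
      intro x
      obtain ⟨g, rfl⟩ := hπsurj x
      have hζsq : ζ * ζ = 1 := by nth_rw 2 [← hfix]; exact mul_inv_cancel₀ hζ0
      have hζm1 : ζ = -1 := (mul_self_eq_one_iff.1 hζsq).resolve_left hζ1
      have : π g = (((g.eval (-1 : ZMod p)).val : ℕ) : K) := by
        have h2 : π = (π.comp C).comp (Polynomial.evalRingHom (-1 : ZMod p)) := by
          refine Polynomial.ringHom_ext (fun r => by simp) ?_
          show π X = π (C ((X : (ZMod p)[X]).eval (-1)))
          rw [eval_X, map_neg, map_neg, map_one, map_one]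
          exact hζm1
        rw [← map_natCast (π.comp C), ZMod.natCast_zmod_val]
        exact RingHom.congr_fun h2 g
      exact ⟨_, this⟩
    obtain ⟨m, rfl⟩ := hnat x
    obtain ⟨n, rfl⟩ := hnat y
    have h1 : ∀ i : ℕ, B (i : K) 1 = 1 := by
      intro i
      induction i with
      | zero => simp [hB0]
      | succ i ih => rw [Nat.cast_succ, hBadd, ih, one_mul, hBself]
    induction n with
    | zero => rw [Nat.cast_zero, hBanti, hB0, inv_one]
    | succ n ih => rw [Nat.cast_succ, hBadd', ih, one_mul, h1]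
  · -- `σ` has a fixed field of half the degree
    let F₀ : AddSubgroup K := (σ.toAddMonoidHom - AddMonoidHom.id K).ker
    have hF₀ : ∀ {x}, x ∈ F₀ ↔ σ x = x := fun {x} => by
      simp [F₀, sub_eq_zero]
    have hsplit : Nat.card K = Nat.card F₀ * Nat.card F₀ := by
      have hd : ζ - σ ζ ≠ 0 := by rw [hσζ]; exact sub_ne_zero.2 (Ne.symm hfix)
      let ψ : F₀ × F₀ → K := fun uv => uv.1 + uv.2 * ζ
      have hψ : Function.Bijective ψ := by
        refine ⟨fun ⟨u, v⟩ ⟨u', v'⟩ huv => ?_, fun l => ?_⟩
        · simp only [ψ] at huv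
          have h2 := congrArg σ huv
          rw [map_add, map_add, map_mul, map_mul, hF₀.1 u.2, hF₀.1 v.2, hF₀.1 u'.2, hF₀.1 v'.2] at h2
          have hv : (v : K) = v' := by
            have : ((v : K) - v') * (ζ - σ ζ) = 0 := by linear_combination huv - h2
            exact sub_eq_zero.1 ((mul_eq_zero.1 this).resolve_right hd)
          have hu : (u : K) = u' := by rw [hv] at huv; exact add_right_cancel huv
          exact Prod.ext (Subtype.ext hu) (Subtype.ext hv)
        · set v := (l - σ l) / (ζ - σ ζ) with hv_def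
          have hv : σ v = v := by
            rw [hv_def, map_div₀, map_sub, map_sub, hσσ, hσσ, ← neg_sub l, ← neg_sub ζ, neg_div_neg_eq]
          have hu : σ (l - v * ζ) = l - v * ζ := by
            rw [map_sub, map_mul, hv]
            have : v * (ζ - σ ζ) = l - σ l := div_mul_cancel₀ _ hd
            linear_combination this
          exact ⟨(⟨_, hF₀.2 hu⟩, ⟨v, hF₀.2 hv⟩), by simp [ψ]⟩
      rw [← Nat.card_congr (Equiv.ofBijective ψ hψ), Nat.card_prod]
    obtain ⟨b, -, hb⟩ : ∃ b ≤ a, Nat.card F₀ = p ^ b :=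
      (Nat.dvd_prime_pow hp.out).1 (hcardK ▸ F₀.card_addSubgroup_dvd_card)
    have hab2 : a = b + b := by
      rw [hcardK, hb, ← pow_add] at hsplit
      exact Nat.pow_right_injective hp.out.two_le hsplit
    -- the linear map whose values generate the derived subgroup
    let L : Multiplicative K →* P := MonoidHom.mk' (fun x => B 1 (Multiplicative.toAdd x)) fun x y => by
      rw [toAdd_mul, hBadd']
    have hDL : D ≤ L.range := hDgen _ fun x y => ⟨Multiplicative.ofAdd (σ x * y), by
      show B 1 (Multiplicative.toAdd (Multiplicative.ofAdd (σ x * y))) = B x y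
      rw [toAdd_ofAdd, ← hBσ, mul_one]⟩
    have hkill : ∀ x ∈ F₀, B 1 x = 1 := by
      intro x hx
      by_cases h2 : p = 2
      · subst h2
        obtain ⟨y, hy⟩ : ∃ y : K, y * y = x := by
          obtain ⟨y, hy⟩ := (Finite.injective_iff_surjective.1 (frobenius_inj K 2)) x
          exact ⟨y, by rw [← hy, frobenius_def, pow_two]⟩
        have hσy : σ y = y := by
          refine frobenius_inj K 2 ?_
          show (σ y) ^ 2 = y ^ 2
          rw [← map_pow, pow_two, hy, hF₀.1 hx]
        have := hBσ y 1 y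
        rw [mul_one, hBself, hσy, hy] at this
        exact this.symm
      · have h1 := hBσ x 1 1
        rw [mul_one, mul_one, hF₀.1 hx, hBanti 1 x] at h1
        obtain ⟨k, hk⟩ := IsPGroup.iff_orderOf.1 h.pgrp (B 1 x)
        have hsq : B 1 x ^ 2 = 1 := by
          rw [pow_two]; nth_rw 1 [← h1]; exact inv_mul_cancel _
        exact orderOf_eq_one_iff.1 (Nat.eq_one_of_dvd_coprimes
          (Nat.Coprime.pow_left k ((Nat.coprime_primes hp.out Nat.prime_two).2 h2)) (hk ▸ dvd_rfl)
          (orderOf_dvd_of_pow_eq_one hsq))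
    have hker : p ^ b ≤ Nat.card L.ker := by
      rw [← hb]
      exact Nat.card_le_card_of_injective
        (fun x : F₀ => (⟨Multiplicative.ofAdd (x : K), hkill x x.2⟩ : L.ker))
        fun x y hxy => Subtype.ext (Multiplicative.ofAdd.injective (congrArg (fun z : L.ker => (z : Multiplicative K)) hxy :))
    have hK2 : Nat.card L.range * Nat.card L.ker = p ^ b * p ^ b := by
      rw [← pow_add, ← hab2, ← hcardK, ← Nat.card_congr (Multiplicative.toAdd (α := K)),
        ← Nat.card_congr (QuotientGroup.quotientKerEquivRange L).toEquiv,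
        ← Subgroup.card_eq_card_quotient_mul_card_subgroup]
    have hrange : Nat.card L.range ≤ p ^ b := by
      refine Nat.le_of_mul_le_mul_right ?_ (pow_pos hp.out.pos b)
      exact (Nat.mul_le_mul_left _ hker).trans hK2.le
    have hDle : Nat.card D ≤ p ^ b :=
      (Nat.le_of_dvd Nat.card_pos (Subgroup.card_dvd_of_le hDL)).trans hrange
    rw [hPcard]
    refine (Nat.mul_le_mul_left _ hDle).trans ?_
    rw [← pow_add]
    refine Nat.pow_le_pow_right hp.out.pos ?_
    rw [maxExp]; split_ifs <;> omega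

end Cfsg.Agent.Lib.SchmidtMax
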