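import Mathlib
import Cfsg.Agent.Lib.SchmidtMax.Bound

/-!
Semidirect products with a cyclic group of prime power order: the universal quotient of the minimal
non-nilpotent groups of given type.
-/

set_option autoImplicit false

namespace Cfsg.Agent.Lib.SchmidtMax

open Subgroup

/-- The homomorphism from a cyclic group sending the generator to `x`. -/
noncomputable def powHom {M : Type*} [Group M] (n : ℕ) (x : M) (hx : x ^ n = 1) :
    Multiplicative (ZMod n) →* M :=
  AddMonoidHom.toMultiplicativeLeft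
    (ZMod.lift n ⟨zmultiplesHom (Additive M) (Additive.ofMul x), by
      show (n : ℤ) • Additive.ofMul x = 0
      rw [natCast_zsmul, ← ofMul_pow, hx]
      rfl⟩)

theorem powHom_apply {M : Type*} [Group M] {n : ℕ} (x : M) (hx : x ^ n = 1) (k : ℕ) :
    powHom n x hx (Multiplicative.ofAdd (k : ZMod n)) = x ^ k := by
  show Additive.toMul (ZMod.lift n _ (k : ZMod n)) = x ^ k
  rw [← Int.cast_natCast k, ZMod.lift_coe]
  show Additive.toMul ((k : ℤ) • Additive.ofMul x) = x ^ k
  simp

theorem exists_ofAdd {n : ℕ} [NeZero n] (g : Multiplicative (ZMod n)) :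
    ∃ k : ℕ, g = Multiplicative.ofAdd (k : ZMod n) :=
  ⟨(Multiplicative.toAdd g).val, by rw [ZMod.natCast_zmod_val]; rfl⟩

/-- The generator of the cyclic group of order `n`. -/
def gen (n : ℕ) : Multiplicative (ZMod n) := Multiplicative.ofAdd 1

theorem gen_pow {n : ℕ} (k : ℕ) : gen n ^ k = Multiplicative.ofAdd (k : ZMod n) := by
  rw [gen, ← ofAdd_nsmul, nsmul_one]

theorem powHom_gen {M : Type*} [Group M] {n : ℕ} (x : M) (hx : x ^ n = 1) : powHom n x hx (gen n) = x := by
  have := powHom_apply x hx 1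
  rwa [pow_one, Nat.cast_one] at this

/-- Multiplication by a unit as an automorphism of the additive group of a field. -/
noncomputable def mulAut {K : Type*} [Field K] (ζ : K) (hζ : ζ ≠ 0) : MulAut (Multiplicative K) :=
  AddEquiv.toMultiplicative (AddEquiv.ofBijective (AddMonoidHom.mulLeft ζ)
    ⟨mul_right_injective₀ hζ, fun y => ⟨ζ⁻¹ * y, by simp [hζ]⟩⟩)

theorem mulAut_apply {K : Type*} [Field K] (ζ : K) (hζ : ζ ≠ 0) (x : Multiplicative K) :
    mulAut ζ hζ x = Multiplicative.ofAdd (ζ * Multiplicative.toAdd x) := rfl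

/-- A semidirect product with a cyclic group, the generator acting as `C`. -/
abbrev Semi (n : ℕ) {U : Type*} [Group U] (C : MulAut U) (hC : C ^ n = 1) :=
  U ⋊[powHom n C hC] Multiplicative (ZMod n)

/-- An equivariant map extends to the semidirect products. -/
noncomputable def semiMap {n : ℕ} [NeZero n] {U W : Type*} [Group U] [Group W] {C : MulAut U} {D : MulAut W}
    (hC : C ^ n = 1) (hD : D ^ n = 1) (θ : U →* W) (hθ : ∀ u, θ (C u) = D (θ u)) :
    Semi n C hC →* Semi n D hD :=
  SemidirectProduct.map θ (MonoidHom.id _) fun g => by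
    obtain ⟨k, rfl⟩ := exists_ofAdd g
    rw [MonoidHom.id_apply, powHom_apply, powHom_apply]
    ext u
    induction k generalizing u with
    | zero => simp
    | succ k ih =>
      show θ ((C ^ (k + 1)) u) = (D ^ (k + 1)) (θ u)
      rw [pow_succ', pow_succ', MulAut.mul_apply, MulAut.mul_apply, hθ]
      exact congrArg D (ih u)

theorem semiMap_surjective {n : ℕ} [NeZero n] {U W : Type*} [Group U] [Group W] {C : MulAut U} {D : MulAut W}
    (hC : C ^ n = 1) (hD : D ^ n = 1) (θ : U →* W) (hθ : ∀ u, θ (C u) = D (θ u))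
    (hs : Function.Surjective θ) : Function.Surjective (semiMap hC hD θ hθ) := fun x => by
  obtain ⟨u, hu⟩ := hs x.left
  exact ⟨⟨u, x.right⟩, SemidirectProduct.ext hu rfl⟩

theorem isNilpotent_of_comm {G : Type*} [Group G] (H : Subgroup G) [hH : IsMulCommutative H] :
    Group.IsNilpotent H :=
  letI : CommGroup H := { (inferInstance : Group H) with mul_comm := hH.is_comm.comm }
  CommGroup.isNilpotent

variable {p q r : ℕ} [hp : Fact p.Prime] [hq : Fact q.Prime]

/-- A hom onto the universal quotient from a group with a normal critical `p`-subgroup. -/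
theorem exists_hom_base {X : Type*} [Group X] [Finite X] (hpq : p ≠ q) (hr : 1 ≤ r)
    {K : Type} [Field K] [Finite K] [CharP K p] (hK : Nat.card K = p ^ orderOf (p : ZMod q))
    (ζ : K) (hζ0 : ζ ≠ 0) (hζ : ζ ^ q = 1) (hζ1 : ζ ≠ 1) (hM : mulAut ζ hζ0 ^ q ^ r = 1)
    (P : Subgroup X) [P.Normal] (hP : IsPGroup p P) (hcard : Nat.card X = Nat.card P * q ^ r)
    (y : X) (hy : orderOf y = q ^ r) (hnn : ¬ Group.IsNilpotent X)
    (hprop : ∀ H : Subgroup X, H ≠ ⊤ → Group.IsNilpotent H) :
    (∃ f : X →* Semi (q ^ r) (mulAut ζ hζ0) hM, Function.Surjective f ∧ IsPGroup p f.ker) ∧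
      Nat.card X ≤ p ^ maxExp (orderOf (p : ZMod q)) * q ^ r := by
  classical
  have hcop : ∀ u ∈ P, ∀ i : ℕ, (orderOf (y ^ i)).Coprime (orderOf u) := fun u hu i => by
    obtain ⟨m, hm⟩ := IsPGroup.iff_orderOf.1 hP ⟨u, hu⟩
    rw [Subgroup.orderOf_mk] at hm
    rw [hm]
    refine Nat.Coprime.coprime_dvd_left ((orderOf_pow_dvd i).trans (dvd_of_eq hy)) ?_
    exact Nat.Coprime.pow r m ((Nat.coprime_primes hq.out hp.out).2 (Ne.symm hpq))
  have hsup : P ⊔ zpowers y = ⊤ := by
    refine Subgroup.eq_top_of_le_card _ ?_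
    have hdis : Disjoint P (zpowers y) := by
      rw [disjoint_iff, eq_bot_iff]
      rintro x ⟨hxP, hxy⟩
      obtain ⟨i, rfl⟩ := mem_powers_iff_mem_zpowers.2 hxy
      rw [Subgroup.mem_bot, ← orderOf_eq_one_iff]
      exact Nat.coprime_self _ |>.1 (hcop _ hxP i)
    rw [hcard, ← hy, ← Nat.card_zpowers, ← Nat.card_prod]
    exact Nat.card_le_card_of_injective
      (fun ab : P × zpowers y => (⟨ab.1 * ab.2, mul_mem (mem_sup_left ab.1.2) (mem_sup_right ab.2.2)⟩ : ↥(P ⊔ zpowers y)))
      fun a b hab => Subgroup.mul_injective_of_disjoint hdis (congrArg Subtype.val hab :)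
  let c : MulAut P := MulAut.conjNormal y
  have hcapp : ∀ u : P, ((c u : P) : X) = y * u * y⁻¹ := fun u => MulAut.conjNormal_apply y u
  have hcrit : Cfsg.Agent.S4394.Crit p q c := by
    refine ⟨hP, hq.out, hpq, ?_, ?_, fun R hR hinv => ?_⟩
    · -- the `q`-th power centralises
      set H := P ⊔ zpowers (y ^ q)
      have hH : H ≠ ⊤ := by
        intro htop
        have hle : Nat.card H ≤ Nat.card P * q ^ (r - 1) := by
          have hn : zpowers (y ^ q) ≤ normalizer (P : Set X) := by rw [normalizer_eq_top]; exact le_top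
          have hyq : Nat.card (zpowers (y ^ q)) = q ^ (r - 1) := by
            rw [Nat.card_zpowers, orderOf_pow_of_dvd hq.out.ne_zero (hy ▸ dvd_pow_self q (by omega)), hy]
            exact Nat.div_eq_of_eq_mul_left hq.out.pos (by rw [← pow_succ, Nat.sub_add_cancel hr])
          rw [← hyq, ← Nat.card_prod]
          refine Nat.card_le_card_of_surjective (fun ab : P × zpowers (y ^ q) =>
            (⟨ab.1 * ab.2, mul_mem (mem_sup_left ab.1.2) (mem_sup_right ab.2.2)⟩ : H)) fun x => ?_
          have hx : (x : X) ∈ ((P ⊔ zpowers (y ^ q) : Subgroup X) : Set X) := x.2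
          rw [Subgroup.normal_mul] at hx
          obtain ⟨a, ha, b, hb, hab⟩ := hx
          exact ⟨(⟨a, ha⟩, ⟨b, hb⟩), Subtype.ext hab⟩
        rw [htop, Subgroup.card_top, hcard] at hle
        have := Nat.le_of_mul_le_mul_left hle Nat.card_pos
        exact absurd this (not_le.2 (Nat.pow_lt_pow_right hq.out.one_lt (by omega)))
      haveI := hprop H hH
      ext u
      rw [← map_pow, MulAut.conjNormal_apply, MulAut.one_apply]
      have hc : Commute (y ^ q) (u : X) := congrArg Subtype.val (Lib.Transfer.commute_of_coprime_orderOf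
        (x := (⟨y ^ q, mem_sup_right (mem_zpowers _)⟩ : H)) (y := ⟨u, mem_sup_left u.2⟩)
        (by simpa using hcop u u.2 q)).eq
      rw [hc.eq, mul_inv_cancel_right]
    · intro h1
      apply hnn
      have hcomm : ∀ u ∈ P, Commute y u := fun u hu => by
        have := congrArg (fun ψ : MulAut P => ((ψ ⟨u, hu⟩ : P) : X)) h1
        simp only [hcapp, MulAut.one_apply] at this
        exact mul_inv_eq_iff_eq_mul.1 this
      haveI := hP.isNilpotent
      haveI : Group.IsNilpotent (zpowers y) := isNilpotent_of_comm _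
      let φ : P × zpowers y →* X := MonoidHom.noncommCoprod P.subtype (zpowers y).subtype fun u w => by
        obtain ⟨i, hi⟩ := w.2
        show Commute (u : X) (w : X)
        rw [← hi]
        exact ((hcomm u u.2).zpow_left i).symm
      refine Group.nilpotent_of_surjective φ ?_
      rw [← MonoidHom.range_eq_top, eq_top_iff, ← hsup]
      exact sup_le (fun u hu => ⟨(⟨u, hu⟩, 1), by simp [φ]⟩) (fun w hw => ⟨(1, ⟨w, hw⟩), by simp [φ]⟩)
    · intro u hu
      set R' := R.map P.subtype
      have hR' : R' ≤ P := Subgroup.map_subtype_le R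
      have hnorm : zpowers y ≤ normalizer (R' : Set X) := by
        rw [zpowers_le]
        refine mem_normalizer_fintype ?_
        rintro _ ⟨w, hw, rfl⟩
        exact ⟨c w, hinv w hw, hcapp w⟩
      have hne : R' ⊔ zpowers y ≠ ⊤ := by
        intro htop
        apply hR
        refine eq_top_iff.2 fun w _ => ?_
        have hw : (w : X) ∈ R' ⊔ zpowers y := htop ▸ mem_top _
        rw [← SetLike.mem_coe, sup_comm, Subgroup.coe_mul_of_left_le_normalizer_right _ _ hnorm] at hw
        obtain ⟨a, ha, b, hb, hab⟩ := hw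
        have haP : a ∈ P := by
          have : a = w * b⁻¹ := by rw [← hab]; group
          rw [this]; exact mul_mem w.2 (inv_mem (hR' hb))
        obtain ⟨i, rfl⟩ := mem_powers_iff_mem_zpowers.2 ha
        have h1 : y ^ i = 1 := orderOf_eq_one_iff.1 (Nat.coprime_self _ |>.1 (hcop _ haP i))
        simp only [h1, one_mul] at hab
        obtain ⟨b', hb', hbb⟩ := hb
        exact (Subtype.ext (hbb.trans hab) : b' = w) ▸ hb'
      haveI := hprop _ hne
      apply Subtype.ext
      rw [hcapp]
      have hc : Commute y (u : X) := congrArg Subtype.val (Lib.Transfer.commute_of_coprime_orderOf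
        (x := (⟨y, mem_sup_right (mem_zpowers _)⟩ : ↥(R' ⊔ zpowers y)))
        (y := ⟨u, mem_sup_left ⟨u, hu, rfl⟩⟩) (by simpa using hcop u u.2 1)).eq
      rw [hc.eq, mul_inv_cancel_right]
  obtain ⟨K', _, _, ζ', θ', hK'char, hK', hζ'q, hζ'1, hθ's, hθ'c, -, hbound⟩ := exists_coord hcrit
  refine ⟨?_, by rw [hcard]; exact Nat.mul_le_mul_right _ hbound⟩
  haveI : Fintype K := Fintype.ofFinite K
  haveI : Fintype K' := Fintype.ofFinite K'
  let ι : K' ≃+* K := FiniteField.ringEquivOfCardEq (by
    rw [← Nat.card_eq_fintype_card, ← Nat.card_eq_fintype_card, hK', hK])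
  have hprim : IsPrimitiveRoot (ι ζ') q := by
    have : orderOf (ι ζ') = q := orderOf_eq_prime (by rw [← map_pow, hζ'q, map_one])
      (fun e => hζ'1 (ι.injective (by rw [e, map_one])))
    exact this ▸ IsPrimitiveRoot.orderOf _
  haveI : NeZero q := ⟨hq.out.ne_zero⟩
  obtain ⟨k, hk, hkζ⟩ := hprim.eq_pow_of_pow_eq_one hζ
  have hkq : k.Coprime q := by
    refine Nat.Coprime.symm (hq.out.coprime_iff_not_dvd.2 fun hd => hζ1 ?_)
    have := Nat.eq_zero_of_dvd_of_lt hd hk
    rw [← hkζ, this, pow_zero]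
  set y' := y ^ k
  have hy' : y' ^ q ^ r = 1 := by rw [← pow_mul, mul_comm, pow_mul, ← hy, pow_orderOf_eq_one, one_pow]
  have hc' : (MulAut.conjNormal y' : MulAut P) ^ q ^ r = 1 := by rw [← map_pow, hy', map_one]
  let θ : P →* Multiplicative K := (AddMonoidHom.toMultiplicative ι.toAddMonoidHom).comp θ'
  have hθc : ∀ u, θ (MulAut.conjNormal y' u) = mulAut ζ hζ0 (θ u) := by
    have key : ∀ (i : ℕ) u, Multiplicative.toAdd (θ ((c ^ i) u)) = ι ζ' ^ i * Multiplicative.toAdd (θ u) := by
      intro i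
      induction i with
      | zero => intro u; simp
      | succ i ih =>
        intro u
        rw [pow_succ', MulAut.mul_apply]
        show ι (Multiplicative.toAdd (θ' (c ((c ^ i) u)))) = _
        rw [hθ'c, toAdd_ofAdd, map_mul, pow_succ', mul_assoc]
        exact congrArg _ (ih u)
    intro u
    rw [mulAut_apply, ← hkζ]
    apply Multiplicative.toAdd.injective
    rw [toAdd_ofAdd, show (MulAut.conjNormal y' : MulAut P) = c ^ k from map_pow _ y k]
    exact key k u
  have hcompat : ∀ g, (P.subtype : P →* X).comp (powHom (q ^ r) (MulAut.conjNormal y' : MulAut P) hc' g).toMonoidHom =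
      (MulAut.conj (powHom (q ^ r) y' hy' g)).toMonoidHom.comp P.subtype := by
    intro g
    obtain ⟨i, rfl⟩ := exists_ofAdd g
    rw [powHom_apply, powHom_apply]
    ext u
    show ((((MulAut.conjNormal y' : MulAut P) ^ i) u : P) : X) = y' ^ i * u * (y' ^ i)⁻¹
    rw [← map_pow, MulAut.conjNormal_apply]
  let e : Semi (q ^ r) (MulAut.conjNormal y' : MulAut P) hc' →* X :=
    SemidirectProduct.lift P.subtype (powHom (q ^ r) y' hy') hcompat
  have hes : Function.Surjective e := by
    rw [← MonoidHom.range_eq_top, eq_top_iff, ← hsup]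
    refine sup_le (fun u hu => ⟨SemidirectProduct.inl ⟨u, hu⟩, by simp [e]⟩) (zpowers_le.2 ?_)
    obtain ⟨j, hj⟩ := exists_pow_eq_self_of_coprime (x := y) (n := k)
      (by rw [hy]; exact Nat.Coprime.pow_right r hkq)
    exact ⟨SemidirectProduct.inr (gen (q ^ r) ^ j), by simp [e, map_pow, powHom_gen]; exact hj⟩
  haveI : Finite (Semi (q ^ r) (MulAut.conjNormal y' : MulAut P) hc') :=
    Finite.of_equiv _ SemidirectProduct.equivProd.symm
  have hecard : Nat.card (Semi (q ^ r) (MulAut.conjNormal y' : MulAut P) hc') = Nat.card X := by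
    rw [SemidirectProduct.card, hcard, Nat.card_congr (Multiplicative.toAdd), Nat.card_zmod]
  let eE := MulEquiv.ofBijective e ⟨((Nat.bijective_iff_surjective_and_card e).2 ⟨hes, hecard⟩).1, hes⟩
  let g := semiMap hc' hM θ hθc
  have hgs : Function.Surjective g := semiMap_surjective hc' hM θ hθc fun x => by
    obtain ⟨u, hu⟩ := hθ's (Multiplicative.ofAdd (ι.symm (Multiplicative.toAdd x)))
    exact ⟨u, by simp [θ, hu]⟩
  refine ⟨g.comp eE.symm.toMonoidHom, hgs.comp eE.symm.surjective, ?_⟩
  intro x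
  have h1 : (eE.symm (x : X)).right = 1 := congrArg SemidirectProduct.right x.2
  obtain ⟨m, hm⟩ := hP (eE.symm (x : X)).left
  refine ⟨m, Subtype.ext (eE.symm.injective ?_)⟩
  rw [SubmonoidClass.coe_pow, map_pow eE.symm, OneMemClass.coe_one, map_one eE.symm]
  have : eE.symm (x : X) = SemidirectProduct.inl (eE.symm (x : X)).left :=
    SemidirectProduct.ext (by simp) (by simp [h1])
  rw [this, ← map_pow SemidirectProduct.inl, hm, map_one SemidirectProduct.inl]

/-- The only invariant additive subgroups of the field are trivial. -/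
theorem invariant_addSubgroup {K : Type} [Field K] [Finite K] [CharP K p]
    (hK : Nat.card K = p ^ orderOf (p : ZMod q)) {ζ : K} (hζ : ζ ^ q = 1) (hζ1 : ζ ≠ 1)
    (S : AddSubgroup K) (hS : ∀ x ∈ S, ζ * x ∈ S) : S = ⊥ ∨ S = ⊤ := by
  classical
  rcases eq_or_ne S ⊥ with h | h
  · exact Or.inl h
  right
  let T : Subring K :=
    { carrier := {t | ∀ x ∈ S, t * x ∈ S}
      mul_mem' := fun {a b} ha hb x hx => by rw [mul_assoc]; exact ha _ (hb x hx)
      one_mem' := fun x hx => by rwa [one_mul]
      add_mem' := fun {a b} ha hb x hx => by rw [add_mul]; exact add_mem (ha x hx) (hb x hx)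
      zero_mem' := fun x _ => by rw [zero_mul]; exact zero_mem _
      neg_mem' := fun {a} ha x hx => by rw [neg_mul]; exact neg_mem (ha x hx) }
  have hζT : ζ ∈ T := hS
  haveI : Fintype T := Fintype.ofFinite T
  letI : Field T := Fintype.fieldOfDomain T
  obtain ⟨d, -, hd⟩ : ∃ d ≤ orderOf (p : ZMod q), Nat.card T = p ^ d :=
    (Nat.dvd_prime_pow hp.out).1 (hK ▸ T.toAddSubgroup.card_addSubgroup_dvd_card)
  have hz : (⟨ζ, hζT⟩ : T) ^ q = 1 := Subtype.ext (by simpa using hζ)
  have hord : orderOf (⟨ζ, hζT⟩ : T) = q := orderOf_eq_prime hz fun e => hζ1 (congrArg Subtype.val e)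
  have hqd : q ∣ p ^ d - 1 := by
    rw [← hd, ← hord, Nat.card_eq_fintype_card]
    refine orderOf_dvd_of_pow_eq_one (FiniteField.pow_card_sub_one_eq_one _ fun e => ?_)
    have := congrArg Subtype.val e
    simp only [ZeroMemClass.coe_zero] at this
    rw [this, zero_pow hq.out.ne_zero] at hζ
    exact zero_ne_one hζ
  have had : orderOf (p : ZMod q) ∣ d := orderOf_dvd_of_pow_eq_one (by
    rw [← sub_eq_zero, ← Nat.cast_pow, ← Nat.cast_one, ← Nat.cast_sub (Nat.one_le_pow _ _ hp.out.pos)]
    exact (ZMod.natCast_eq_zero_iff _ _).2 hqd)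
  have hd0 : 0 < d := by
    by_contra h0
    rw [Nat.le_zero.1 (not_lt.1 h0), pow_zero, Nat.card_eq_one_iff_unique] at hd
    exact zero_ne_one (congrArg Subtype.val (hd.1.elim (0 : T) 1) :)
  have htop : T.toAddSubgroup = ⊤ := by
    refine AddSubgroup.eq_top_of_le_card _ ?_
    rw [hK]
    exact (Nat.pow_le_pow_right hp.out.pos (Nat.le_of_dvd hd0 had)).trans hd.ge
  obtain ⟨x, hx, hx0⟩ : ∃ x ∈ S, x ≠ 0 := by
    by_contra! hall
    exact h (eq_bot_iff.2 fun x hx => hall x hx)
  refine eq_top_iff.2 fun z _ => ?_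
  have hzT : z * x⁻¹ ∈ T.toAddSubgroup := htop ▸ AddSubgroup.mem_top _
  simpa [hx0] using (hzT : ∀ w ∈ S, z * x⁻¹ * w ∈ S) x hx

/-- The extremal model is minimal non-nilpotent and has no normal `p`-complement. -/
theorem model_props {K : Type} [Field K] [Finite K] [CharP K p] (hpq : p ≠ q) (hr : 1 ≤ r)
    (hK : Nat.card K = p ^ orderOf (p : ZMod q)) {ζ : K} (hζ0 : ζ ≠ 0) (hζ : ζ ^ q = 1) (hζ1 : ζ ≠ 1)
    {U : Type*} [Group U] [Finite U] (hU : IsPGroup p U) (C : MulAut U) (hCq : C ^ q = 1)
    (hC : C ^ q ^ r = 1) (θ : U →* Multiplicative K) (hθs : Function.Surjective θ)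
    (hθc : ∀ u, θ (C u) = mulAut ζ hζ0 (θ u)) (hker : ∀ u ∈ θ.ker, u ∈ center U ∧ C u = u)
    (hgen : ∀ R : Subgroup U, (∀ x, ∃ u ∈ R, θ u = x) → R = ⊤) :
    ¬ Cfsg.HasNormalPComplement p (Semi (q ^ r) C hC) ∧ ¬ Group.IsNilpotent (Semi (q ^ r) C hC) ∧
      ∀ H : Subgroup (Semi (q ^ r) C hC), H ≠ ⊤ → Group.IsNilpotent H := by
  classical
  haveI : NeZero (q ^ r) := ⟨pow_ne_zero _ hq.out.ne_zero⟩
  set G := Semi (q ^ r) C hC
  haveI : Finite G := Finite.of_equiv _ SemidirectProduct.equivProd.symm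
  have hgo : orderOf (SemidirectProduct.inr (gen (q ^ r)) : G) = q ^ r := by
    rw [orderOf_injective _ SemidirectProduct.inr_injective, gen, orderOf_ofAdd_eq_addOrderOf,
      ZMod.addOrderOf_one]
  -- some element of `U` is moved by the generator
  obtain ⟨u₀, hu₀⟩ := hθs (Multiplicative.ofAdd 1)
  have hnc : ¬ Commute (SemidirectProduct.inr (gen (q ^ r)) : G) (SemidirectProduct.inl u₀) := by
    intro hc
    have h1 := mul_inv_eq_iff_eq_mul.2 hc.eq
    rw [← map_inv, ← SemidirectProduct.inl_aut] at h1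
    have h2 := SemidirectProduct.inl_injective h1
    rw [powHom_gen] at h2
    have h3 := congrArg θ h2
    rw [hθc, hu₀, mulAut_apply, toAdd_ofAdd, mul_one] at h3
    exact hζ1 (Multiplicative.ofAdd.injective h3)
  have hu₀o : ∃ m, orderOf (SemidirectProduct.inl u₀ : G) = p ^ m := by
    rw [orderOf_injective _ SemidirectProduct.inl_injective]
    exact IsPGroup.iff_orderOf.1 hU u₀
  refine ⟨?_, ?_, ?_⟩
  · rintro ⟨P, N, hN, hcompl⟩
    apply hnc
    obtain ⟨m, hm⟩ := hu₀o
    obtain ⟨j, hj⟩ := P.2.exists_card_eq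
    -- the generator lies in the complement
    have hgN : (SemidirectProduct.inr (gen (q ^ r)) : G) ∈ N := by
      rw [← QuotientGroup.eq_one_iff, ← orderOf_eq_one_iff]
      refine Nat.eq_one_of_dvd_coprimes
        (Nat.Coprime.pow r j ((Nat.coprime_primes hq.out hp.out).2 (Ne.symm hpq))) ?_ ?_
      · exact (orderOf_map_dvd (QuotientGroup.mk' N) _).trans hgo.dvd
      · rw [← hj, ← hcompl.symm.index_eq_card, Subgroup.index_eq_card]
        exact orderOf_dvd_natCard _
    have hNcop : (Nat.card N).Coprime p := by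
      rw [← hcompl.index_eq_card]
      exact ((Fact.out : p.Prime).coprime_iff_not_dvd.mpr P.not_dvd_index).symm
    let U' : Subgroup G := (SemidirectProduct.rightHom (φ := powHom (q ^ r) C hC)).ker
    have hdis : Disjoint N U' := by
      rw [disjoint_iff, eq_bot_iff]
      rintro x ⟨hxN, hxU⟩
      obtain ⟨u, rfl⟩ : ∃ u, SemidirectProduct.inl u = x := by
        have : x ∈ (SemidirectProduct.inl : U →* G).range := by
          rw [SemidirectProduct.range_inl_eq_ker_rightHom]; exact hxU
        exact this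
      obtain ⟨i, hi⟩ := IsPGroup.iff_orderOf.1 hU u
      rw [Subgroup.mem_bot, ← orderOf_eq_one_iff]
      refine Nat.eq_one_of_dvd_coprimes (hNcop.pow_right i) (Subgroup.orderOf_dvd_natCard N hxN) ?_
      rw [orderOf_injective _ SemidirectProduct.inl_injective, hi]
    exact Subgroup.commute_of_normal_of_disjoint _ _ hN inferInstance hdis _ _ hgN
      (by simp [U', MonoidHom.mem_ker])
  · intro hnil
    apply hnc
    obtain ⟨m, hm⟩ := hu₀o
    exact Lib.Transfer.commute_of_coprime_orderOf (by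
      rw [hgo, hm]; exact Nat.Coprime.pow r m ((Nat.coprime_primes hq.out hp.out).2 (Ne.symm hpq)))
  intro H hH
  by_cases hsurj : ∃ h ∈ H, ¬ q ∣ (Multiplicative.toAdd h.right).val
  swap
  · -- inside `U` times the powers of the `q`-th power
    push Not at hsurj
    have hact : ∀ h ∈ H, powHom (q ^ r) C hC h.right = 1 := fun h hh => by
      obtain ⟨k, hk⟩ := hsurj h hh
      have e : h.right = Multiplicative.ofAdd (((Multiplicative.toAdd h.right).val : ℕ) : ZMod (q ^ r)) := by
        rw [ZMod.natCast_zmod_val]; rfl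
      rw [e, powHom_apply, hk, pow_mul, hCq, one_pow]
    haveI := hU.isNilpotent
    haveI : Group.IsNilpotent (Multiplicative (ZMod (q ^ r))) := CommGroup.isNilpotent
    let ψ : H →* U × Multiplicative (ZMod (q ^ r)) := MonoidHom.mk' (fun h => ((h : G).left, (h : G).right))
      fun a b => by
        refine Prod.ext ?_ rfl
        show ((a : G) * b).left = _
        rw [SemidirectProduct.mul_left, hact _ a.2]
        rfl
    have hψ : Function.Injective ψ := fun a b hab => Subtype.ext (SemidirectProduct.ext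
      (congrArg Prod.fst hab) (congrArg Prod.snd hab))
    haveI : Group.IsNilpotent ψ.range := Subgroup.isNilpotent _
    exact Group.nilpotent_of_surjective (MonoidHom.ofInjective hψ).symm.toMonoidHom
      (MonoidHom.ofInjective hψ).symm.surjective
  -- a generator modulo `U` occurs
  obtain ⟨h₀, hh₀, hv⟩ := hsurj
  obtain ⟨h, hh, hr1⟩ : ∃ h ∈ H, h.right = gen (q ^ r) := by
    set v := (Multiplicative.toAdd h₀.right).val
    obtain ⟨j, hj⟩ : ∃ j : ℕ, ((v * j : ℕ) : ZMod (q ^ r)) = 1 := by
      have hc : v.Coprime (q ^ r) := Nat.Coprime.pow_right r (hq.out.coprime_iff_not_dvd.2 hv).symm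
      refine ⟨((v : ZMod (q ^ r))⁻¹).val, ?_⟩
      rw [Nat.cast_mul, ZMod.natCast_zmod_val ((v : ZMod (q ^ r))⁻¹)]
      exact ZMod.coe_mul_inv_eq_one v hc
    refine ⟨h₀ ^ j, pow_mem hh₀ j, ?_⟩
    show SemidirectProduct.rightHom (h₀ ^ j) = _
    rw [map_pow]
    show h₀.right ^ j = _
    rw [show h₀.right = gen (q ^ r) ^ v by rw [gen_pow, ZMod.natCast_zmod_val]; rfl, ← pow_mul, gen_pow, hj]
    rfl
  let R : Subgroup U := H.comap SemidirectProduct.inl
  let S : AddSubgroup K :=
    { carrier := {x | ∃ u ∈ R, θ u = Multiplicative.ofAdd x}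
      zero_mem' := ⟨1, one_mem _, by simp⟩
      add_mem' := by
        rintro x y ⟨u, hu, hx⟩ ⟨w, hw, hy⟩
        exact ⟨u * w, mul_mem hu hw, by rw [map_mul, hx, hy, ofAdd_add]⟩
      neg_mem' := by
        rintro x ⟨u, hu, hx⟩
        exact ⟨u⁻¹, inv_mem hu, by rw [map_inv, hx, ofAdd_neg]⟩ }
  have hconj : ∀ u, h * SemidirectProduct.inl u * h⁻¹ =
      (SemidirectProduct.inl (h.left * C u * h.left⁻¹) : G) := by
    intro u
    have e : h = SemidirectProduct.inl h.left * SemidirectProduct.inr (gen (q ^ r)) := by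
      rw [← hr1, SemidirectProduct.inl_left_mul_inr_right]
    have h2 : (SemidirectProduct.inr (gen (q ^ r)) : G) * SemidirectProduct.inl u *
        (SemidirectProduct.inr (gen (q ^ r)))⁻¹ = SemidirectProduct.inl (C u) := by
      rw [← map_inv, ← SemidirectProduct.inl_aut, powHom_gen]
    conv_lhs => rw [e]
    rw [map_mul, map_mul, map_inv, ← h2]
    group
  have hS : ∀ x ∈ S, ζ * x ∈ S := by
    rintro x ⟨u, hu, hx⟩
    refine ⟨h.left * C u * h.left⁻¹, ?_, ?_⟩
    · show SemidirectProduct.inl _ ∈ H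
      rw [← hconj]
      exact mul_mem (mul_mem hh hu) (inv_mem hh)
    · rw [map_mul, map_mul, map_inv, mul_right_comm, mul_inv_cancel, one_mul, hθc, hx, mulAut_apply, toAdd_ofAdd]
  rcases invariant_addSubgroup (p := p) (q := q) hK hζ hζ1 S hS with hbot | htop
  · -- the intersection with `U` is central
    have hRc : ∀ u ∈ R, u ∈ center U ∧ C u = u := fun u hu => hker u (by
      have : Multiplicative.toAdd (θ u) ∈ S := ⟨u, hu, rfl⟩
      rw [hbot, AddSubgroup.mem_bot] at this
      exact Multiplicative.toAdd.injective this)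
    have hdec : ∀ a ∈ H, ∃ u ∈ R, ∃ i : ℕ, a = SemidirectProduct.inl u * h ^ i := by
      intro a ha
      set i := (Multiplicative.toAdd a.right).val
      have hker' : a * (h ^ i)⁻¹ ∈ (SemidirectProduct.inl : U →* G).range := by
        rw [SemidirectProduct.range_inl_eq_ker_rightHom, MonoidHom.mem_ker, map_mul, map_inv, map_pow]
        show a.right * (h.right ^ i)⁻¹ = 1
        rw [hr1, gen_pow, ZMod.natCast_zmod_val, mul_inv_eq_one]
        rfl
      obtain ⟨u, hu⟩ := hker'
      refine ⟨u, ?_, i, by rw [hu]; group⟩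
      show SemidirectProduct.inl u ∈ H
      rw [hu]
      exact mul_mem ha (inv_mem (pow_mem hh i))
    have hcm : ∀ u ∈ R, Commute (SemidirectProduct.inl u : G) h := fun u hu => by
      obtain ⟨hc, hf⟩ := hRc u hu
      refine (mul_inv_eq_iff_eq_mul.1 ?_).symm
      rw [hconj, hf, mem_center_iff.1 hc h.left, mul_inv_cancel_right]
    haveI : IsMulCommutative H := ⟨⟨fun a b => Subtype.ext (by
      obtain ⟨u, hu, i, ha⟩ := hdec a a.2
      obtain ⟨w, hw, j, hb⟩ := hdec b b.2
      have huw : Commute (SemidirectProduct.inl u : G) (SemidirectProduct.inl w) :=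
        (show Commute u w from (mem_center_iff.1 (hRc u hu).1 w).symm).map SemidirectProduct.inl
      rw [Subgroup.coe_mul, Subgroup.coe_mul, ha, hb]
      exact ((huw.mul_right ((hcm u hu).pow_right j)).mul_left
        (((hcm w hw).pow_right i).symm.mul_right (Commute.pow_pow_self h i j))).eq)⟩⟩
    exact isNilpotent_of_comm H
  · exfalso
    apply hH
    have hR : R = ⊤ := hgen R fun x => by
      have : Multiplicative.toAdd x ∈ S := htop ▸ AddSubgroup.mem_top _
      exact this
    refine eq_top_iff.2 fun a _ => ?_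
    set i := (Multiplicative.toAdd a.right).val
    have hker' : a * (h ^ i)⁻¹ ∈ (SemidirectProduct.inl : U →* G).range := by
      rw [SemidirectProduct.range_inl_eq_ker_rightHom, MonoidHom.mem_ker, map_mul, map_inv, map_pow]
      show a.right * (h.right ^ i)⁻¹ = 1
      rw [hr1, gen_pow, ZMod.natCast_zmod_val, mul_inv_eq_one]
      rfl
    obtain ⟨u, hu⟩ := hker'
    have hu' : SemidirectProduct.inl u ∈ H := (hR ▸ mem_top u : u ∈ R)
    rw [hu] at hu'
    simpa using mul_mem hu' (pow_mem hh i)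

end Cfsg.Agent.Lib.SchmidtMax
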