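import Mathlib
import Cfsg.Agent.Lib.SchmidtMax.Core

/-!
The extremal critical `p`-group: the additive group of the field, or the unitary group of order
`p ^ (3b)` when the degree `2b` is even.
-/

set_option autoImplicit false

namespace Cfsg.Agent.Lib.SchmidtMax

section Uni

variable {K : Type} [Field K]

/-- The unitary special group attached to an involutive field endomorphism. -/
@[ext]
structure Uni (σ : K →+* K) (hσ : ∀ x, σ (σ x) = x) where
  /-- first coordinate -/
  fx : K
  /-- second coordinate -/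
  fy : K
  rel : fy + σ fy = σ fx * fx

variable {σ : K →+* K} {hσ : ∀ x, σ (σ x) = x}

instance : Mul (Uni σ hσ) :=
  ⟨fun u w => ⟨u.fx + w.fx, u.fy + w.fy + σ u.fx * w.fx, by
    have h1 := u.rel
    have h2 := w.rel
    simp only [map_add, map_mul, hσ]
    linear_combination h1 + h2⟩⟩

instance : One (Uni σ hσ) := ⟨⟨0, 0, by simp⟩⟩

instance : Inv (Uni σ hσ) :=
  ⟨fun u => ⟨-u.fx, -u.fy + σ u.fx * u.fx, by
    have h1 := u.rel
    simp only [map_add, map_mul, map_neg, hσ]
    linear_combination -h1⟩⟩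

theorem Uni.mul_fx (u w : Uni σ hσ) : (u * w).fx = u.fx + w.fx := rfl
theorem Uni.mul_fy (u w : Uni σ hσ) : (u * w).fy = u.fy + w.fy + σ u.fx * w.fx := rfl
theorem Uni.one_fx : (1 : Uni σ hσ).fx = 0 := rfl
theorem Uni.one_fy : (1 : Uni σ hσ).fy = 0 := rfl
theorem Uni.inv_fx (u : Uni σ hσ) : u⁻¹.fx = -u.fx := rfl
theorem Uni.inv_fy (u : Uni σ hσ) : u⁻¹.fy = -u.fy + σ u.fx * u.fx := rfl

noncomputable instance : Group (Uni σ hσ) where
  mul_assoc u v w := by
    ext <;> simp only [Uni.mul_fx, Uni.mul_fy, map_add] <;> ring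
  one_mul u := by
    ext <;> simp [Uni.mul_fx, Uni.mul_fy, Uni.one_fx, Uni.one_fy]
  mul_one u := by
    ext <;> simp [Uni.mul_fx, Uni.mul_fy, Uni.one_fx, Uni.one_fy]
  inv_mul_cancel u := by
    ext <;> simp only [Uni.mul_fx, Uni.mul_fy, Uni.inv_fx, Uni.inv_fy, Uni.one_fx, Uni.one_fy, map_neg] <;> ring

/-- The projection to the first coordinate. -/
noncomputable def Uni.proj : Uni σ hσ →* Multiplicative K :=
  MonoidHom.mk' (fun u => Multiplicative.ofAdd u.fx) fun _ _ => rfl

instance [Finite K] : Finite (Uni σ hσ) :=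
  Finite.of_injective (fun u => (u.fx, u.fy)) fun _ _ h => Uni.ext (Prod.ext_iff.1 h).1 (Prod.ext_iff.1 h).2

/-- The twist by a norm one scalar. -/
noncomputable def Uni.twist [Finite K] (ζ : K) (hζ : σ ζ * ζ = 1) : MulAut (Uni σ hσ) :=
  MulEquiv.ofBijective (MonoidHom.mk' (fun u => (⟨ζ * u.fx, u.fy, by
      rw [map_mul, u.rel]; linear_combination -(σ u.fx * u.fx) * hζ⟩ : Uni σ hσ))
    fun u w => by
      ext
      · simp only [Uni.mul_fx]; ring
      · simp only [Uni.mul_fy, map_mul]; linear_combination -(σ u.fx * w.fx) * hζ) (by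
    refine Finite.injective_iff_bijective.1 fun u w h => ?_
    have hz : ζ ≠ 0 := fun h0 => by simp [h0] at hζ
    exact Uni.ext (mul_left_cancel₀ hz (congrArg Uni.fx h)) (congrArg Uni.fy h :))

theorem Uni.twist_fx [Finite K] (ζ : K) (hζ : σ ζ * ζ = 1) (u : Uni σ hσ) :
    (Uni.twist ζ hζ u).fx = ζ * u.fx := rfl

theorem Uni.twist_fy [Finite K] (ζ : K) (hζ : σ ζ * ζ = 1) (u : Uni σ hσ) :
    (Uni.twist ζ hζ u).fy = u.fy := rfl

end Uni

theorem mulAut_pow_apply {K : Type*} [Field K] (ζ : K) (hζ : ζ ≠ 0) (k : ℕ) (x : Multiplicative K) :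
    (mulAut ζ hζ ^ k) x = Multiplicative.ofAdd (ζ ^ k * Multiplicative.toAdd x) := by
  induction k with
  | zero => simp
  | succ k ih => rw [pow_succ', MulAut.mul_apply, ih, mulAut_apply, toAdd_ofAdd, pow_succ', mul_assoc]

open Polynomial in
theorem card_le_of_pow_eq {K : Type} [Field K] (n : ℕ) (hn : 1 < n) (c : K) (s : Set K)
    (hs : ∀ x ∈ s, x ^ n = c * x) : Nat.card s ≤ n := by
  classical
  have hP : (X ^ n - C c * X : K[X]) ≠ 0 := by
    intro h
    have := congrArg (fun P => P.coeff n) h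
    simp [coeff_X, Nat.ne_of_lt hn] at this
  have hdeg : (X ^ n - C c * X : K[X]).natDegree ≤ n :=
    (natDegree_sub_le _ _).trans (max_le (by simp) ((natDegree_C_mul_le _ _).trans (by simp; omega)))
  have hsub : s ⊆ ((X ^ n - C c * X : K[X]).roots.toFinset : Set K) := fun x hx => by
    simp [hP, hs x hx]
  calc Nat.card s ≤ Nat.card ((X ^ n - C c * X : K[X]).roots.toFinset : Set K) :=
        Nat.card_mono (Finset.finite_toSet _) hsub
    _ ≤ n := by
        rw [Nat.card_coe_set_eq, Set.ncard_coe_finset]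
        exact ((Multiset.toFinset_card_le _).trans (card_roots' _)).trans hdeg

/-- The extremal critical group with its coordinate map. -/
theorem exists_model (p q : ℕ) [hp : Fact p.Prime] [hq : Fact q.Prime] (hpq : p ≠ q) :
    ∃ (K : Type) (_ : Field K) (_ : Finite K) (_ : CharP K p) (ζ : K) (hζ0 : ζ ≠ 0) (U : Type) (_ : Group U)
      (_ : Finite U) (C : MulAut U) (θ : U →* Multiplicative K),
      Nat.card K = p ^ orderOf (p : ZMod q) ∧ ζ ^ q = 1 ∧ ζ ≠ 1 ∧ IsPGroup p U ∧ C ^ q = 1 ∧
      Function.Surjective θ ∧ (∀ u, θ (C u) = mulAut ζ hζ0 (θ u)) ∧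
      (∀ u ∈ θ.ker, u ∈ Subgroup.center U ∧ C u = u) ∧
      (∀ R : Subgroup U, (∀ x, ∃ u ∈ R, θ u = x) → R = ⊤) ∧
      Nat.card U = p ^ maxExp (orderOf (p : ZMod q)) := by
  classical
  have hp0 : (p : ZMod q) ≠ 0 := by
    rw [Ne, ZMod.natCast_eq_zero_iff, Nat.prime_dvd_prime_iff_eq hq.out hp.out]
    exact Ne.symm hpq
  obtain ⟨a, ha⟩ : ∃ a, a = orderOf (p : ZMod q) := ⟨_, rfl⟩
  have hq1 : (p : ZMod q) ^ (q - 1) = 1 := ZMod.pow_card_sub_one_eq_one hp0
  have ha0 : 0 < a := ha ▸ orderOf_pos_iff.2 (isOfFinOrder_iff_pow_eq_one.2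
    ⟨q - 1, by have := hq.out.two_le; omega, hq1⟩)
  have hdvd : ∀ k, q ∣ p ^ k - 1 ↔ a ∣ k := fun k => by
    rw [ha, orderOf_dvd_iff_pow_eq_one, ← ZMod.natCast_eq_zero_iff, Nat.cast_sub (Nat.one_le_pow _ _ hp.out.pos),
      Nat.cast_pow, Nat.cast_one, sub_eq_zero]
  rw [← ha]
  let K := GaloisField p a
  have hK : Nat.card K = p ^ a := GaloisField.card p a ha0.ne'
  haveI : Fintype K := Fintype.ofFinite K
  obtain ⟨z, hz⟩ : ∃ z : Kˣ, orderOf z = q := exists_prime_orderOf_dvd_card' q (by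
    rw [Nat.card_units, hK]; exact (hdvd a).2 dvd_rfl)
  set ζ : K := (z : K)
  have hζ0 : ζ ≠ 0 := z.ne_zero
  have hζq : ζ ^ q = 1 := by
    rw [← Units.val_pow_eq_pow_val, ← hz, pow_orderOf_eq_one, Units.val_one]
  have hζ1 : ζ ≠ 1 := fun h => by
    rw [Units.val_eq_one.1 h, orderOf_one] at hz
    exact hq.out.one_lt.ne hz
  rcases Nat.even_or_odd a with ⟨b, hb⟩ | hodd
  · -- the unitary group
    have hb0 : 0 < b := by omega
    have hpa : (p ^ b) * (p ^ b) = p ^ a := by rw [← pow_add, hb]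
    have hpb : 1 < p ^ b := Nat.one_lt_pow hb0.ne' hp.out.one_lt
    let σ : K →+* K := iterateFrobenius K p b
    have hσdef : ∀ x, σ x = x ^ p ^ b := fun x => iterateFrobenius_def p b x
    have hσ : ∀ x, σ (σ x) = x := fun x => by
      rw [hσdef, hσdef, ← pow_mul, hpa, ← hK, Nat.card_eq_fintype_card, FiniteField.pow_card]
    have hζσ : σ ζ * ζ = 1 := by
      rw [hσdef, ← pow_succ]
      obtain ⟨m, hm⟩ : q ∣ p ^ b + 1 := by
        have h1 : q ∣ (p ^ b + 1) * (p ^ b - 1) := by
          rw [← Nat.sq_sub_sq, one_pow, pow_two, hpa]; exact (hdvd a).2 dvd_rfl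
        refine (hq.out.dvd_mul.1 h1).resolve_right fun h => ?_
        have := Nat.le_of_dvd hb0 ((hdvd b).1 h)
        omega
      rw [hm, pow_mul, hζq, one_pow]
    let T : K →+ K := AddMonoidHom.id K + σ.toAddMonoidHom
    let D : K →+ K := AddMonoidHom.id K - σ.toAddMonoidHom
    have hTle : Nat.card T.range ≤ p ^ b := by
      refine card_le_of_pow_eq _ hpb 1 (T.range : Set K) ?_
      rintro _ ⟨x, rfl⟩
      show (x + σ x) ^ p ^ b = 1 * (x + σ x)
      rw [← hσdef, map_add, hσ]; ring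
    have hDle : Nat.card T.ker ≤ p ^ b := by
      refine card_le_of_pow_eq _ hpb (-1) (T.ker : Set K) fun x hx => ?_
      rw [← hσdef]
      have : x + σ x = 0 := hx
      linear_combination this
    have hfix : Nat.card D.ker ≤ p ^ b := by
      refine card_le_of_pow_eq _ hpb 1 (D.ker : Set K) fun x hx => ?_
      rw [← hσdef]
      have : x - σ x = 0 := hx
      linear_combination -this
    have hmul : ∀ f : K →+ K, Nat.card f.range * Nat.card f.ker = p ^ b * p ^ b := fun f => by
      rw [hpa, ← hK, ← AddSubgroup.index_ker, mul_comm, AddSubgroup.card_mul_index]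
    have hTker : Nat.card T.ker = p ^ b := by
      refine le_antisymm hDle (Nat.le_of_mul_le_mul_left ?_ (Nat.zero_lt_of_lt hpb))
      rw [← hmul T]
      exact Nat.mul_le_mul_right _ hTle
    have hDrange : D.range = T.ker := by
      refine AddSubgroup.eq_of_le_of_card_ge ?_ ?_
      · rintro _ ⟨x, rfl⟩
        show (x - σ x) + σ (x - σ x) = 0
        rw [map_sub, hσ]; ring
      · rw [hTker]
        refine Nat.le_of_mul_le_mul_right ?_ (Nat.card_pos (α := D.ker))
        rw [hmul D]
        exact Nat.mul_le_mul_left _ hfix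
    obtain ⟨w, hw⟩ : ∃ w, w + σ w ≠ 0 := by
      by_contra! hall
      have h1 := hall 1
      have h2 := hall ζ
      rw [map_one] at h1
      have h3 : ζ ^ 2 = 1 := by linear_combination ζ * h2 - hζσ - h1
      have h4 : (ζ - 1) ^ 2 = 0 := by linear_combination h3 + (1 - ζ) * h1
      exact hζ1 (sub_eq_zero.1 (pow_eq_zero_iff two_ne_zero |>.1 h4))
    let C : MulAut (Uni σ hσ) := Uni.twist ζ hζσ
    have hker : ∀ u ∈ (Uni.proj (σ := σ) (hσ := hσ)).ker, u ∈ Subgroup.center (Uni σ hσ) ∧ C u = u := by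
      intro u hu
      have h0 : u.fx = 0 := hu
      refine ⟨Subgroup.mem_center_iff.2 fun g => ?_, ?_⟩
      · ext
        · simp only [Uni.mul_fx]; ring
        · simp only [Uni.mul_fy, h0, map_zero]; ring
      · ext
        · rw [Uni.twist_fx, h0, mul_zero]
        · rw [Uni.twist_fy]
    have hsurj : Function.Surjective (Uni.proj (σ := σ) (hσ := hσ)) := by
      intro x
      obtain ⟨x, rfl⟩ := Multiplicative.ofAdd.surjective x
      refine ⟨⟨x, σ x * x * w / (w + σ w), ?_⟩, rfl⟩
      rw [map_div₀, map_mul, map_mul, map_add, hσ, hσ, add_comm (σ w) w, ← add_div,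
        show σ x * x * w + x * σ x * σ w = σ x * x * (w + σ w) by ring, mul_div_assoc, div_self hw, mul_one]
    let eker : (Uni.proj (σ := σ) (hσ := hσ)).ker ≃ T.ker :=
      { toFun := fun u => ⟨u.1.fy, by
          have h0 : u.1.fx = 0 := u.2
          have := u.1.rel
          rw [h0, mul_zero] at this
          exact this⟩
        invFun := fun y => ⟨⟨0, y, by rw [mul_zero]; exact y.2⟩, rfl⟩
        left_inv := fun u => Subtype.ext (Uni.ext (show (0 : K) = u.1.fx from (u.2 : u.1.fx = 0).symm) rfl)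
        right_inv := fun y => rfl }
    have hcard : Nat.card (Uni σ hσ) = p ^ (3 * b) := by
      rw [← Subgroup.card_mul_index (Uni.proj (σ := σ) (hσ := hσ)).ker, Subgroup.index_ker,
        MonoidHom.range_eq_top.2 hsurj, Subgroup.card_top, Nat.card_congr eker, hTker,
        Nat.card_congr Multiplicative.toAdd, hK, ← pow_add]
      congr 1; omega
    refine ⟨K, inferInstance, inferInstance, inferInstance, ζ, hζ0, Uni σ hσ, inferInstance, inferInstance, C,
      Uni.proj, hK, hζq, hζ1, IsPGroup.of_card hcard, ?_, hsurj, fun u => rfl, hker, ?_, ?_⟩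
    · ext u
      · have : ∀ k, ((C ^ k) u).fx = ζ ^ k * u.fx := fun k => by
          induction k with
          | zero => simp
          | succ k ih => rw [pow_succ', MulAut.mul_apply, Uni.twist_fx, ih, pow_succ']; ring
        rw [this, hζq, one_mul, MulAut.one_apply]
      · have : ∀ k, ((C ^ k) u).fy = u.fy := fun k => by
          induction k with
          | zero => simp
          | succ k ih => rw [pow_succ', MulAut.mul_apply, Uni.twist_fy, ih]
        rw [this, MulAut.one_apply]
    · intro R hR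
      refine eq_top_iff.2 fun v _ => ?_
      obtain ⟨u, hu, huv⟩ := hR (Uni.proj v)
      suffices hk : ∀ k ∈ (Uni.proj (σ := σ) (hσ := hσ)).ker, k ∈ R by
        have := mul_mem hu (hk (u⁻¹ * v) (by rw [MonoidHom.mem_ker, map_mul, map_inv, huv, inv_mul_cancel]))
        rwa [mul_inv_cancel_left] at this
      intro k hk
      have h0 : k.fx = 0 := hk
      have hkT : k.fy ∈ D.range := by
        rw [hDrange]
        have := k.rel
        rw [h0, mul_zero] at this
        exact this
      obtain ⟨x', hx'⟩ := hkT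
      obtain ⟨u₁, hu₁, h₁⟩ := hR (Multiplicative.ofAdd 1)
      obtain ⟨u₂, hu₂, h₂⟩ := hR (Multiplicative.ofAdd x')
      have e1 : u₁.fx = 1 := h₁
      have e2 : u₂.fx = x' := h₂
      have e : u₁ * u₂ = k * (u₂ * u₁) := by
        ext
        · simp only [Uni.mul_fx, h0]; ring
        · simp only [Uni.mul_fy, Uni.mul_fx, h0, map_zero, e1, e2, map_one]
          have hx : x' - σ x' = k.fy := hx'
          linear_combination hx
      rw [eq_mul_inv_of_mul_eq e.symm]
      exact mul_mem (mul_mem hu₁ hu₂) (inv_mem (mul_mem hu₂ hu₁))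
    · rw [hcard, maxExp, if_neg (by omega), show 3 * a / 2 = 3 * b by omega]
  · have hcard : Nat.card (Multiplicative K) = p ^ a := by rw [Nat.card_congr Multiplicative.toAdd, hK]
    refine ⟨K, inferInstance, inferInstance, inferInstance, ζ, hζ0, Multiplicative K, inferInstance, inferInstance,
      mulAut ζ hζ0, MonoidHom.id _, hK, hζq, hζ1, IsPGroup.of_card hcard, ?_, fun x => ⟨x, rfl⟩, fun u => rfl,
      fun u hu => ?_, fun R hR => ?_, ?_⟩
    · ext x; rw [mulAut_pow_apply, hζq, one_mul, MulAut.one_apply]; rfl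
    · rw [MonoidHom.mem_ker, MonoidHom.id_apply] at hu
      subst hu
      exact ⟨one_mem _, map_one _⟩
    · refine eq_top_iff.2 fun x _ => ?_
      obtain ⟨u, hu, rfl⟩ := hR x
      exact hu
    · rw [hcard, maxExp, if_pos (Nat.odd_iff.1 hodd)]

end Cfsg.Agent.Lib.SchmidtMax
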